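import Mathlib

/-!
If `g` of prime order acts without fixed points on a group `T` and on an abelian group `V` of coprime
order on which `T` acts compatibly, then `T` acts trivially on `V`.
-/

set_option autoImplicit false

namespace Cfsg.Agent.Lib.PrimePowerOutside

theorem acts_trivially {H V : Type*} [Group H] [Finite H] [CommGroup V] [Finite V] (φ : H →* MulAut V)
    (T : Subgroup H) (g : H) {r : ℕ} (hr : r.Prime) (hg : g ^ r = 1)
    (hgT : ∀ t ∈ T, g * t * g⁻¹ ∈ T) (hfixT : ∀ t ∈ T, g * t = t * g → t = 1)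
    (hfixV : ∀ v : V, φ g v = v → v = 1) (hcop : (Nat.card V).Coprime (Nat.card T)) :
    ∀ t ∈ T, ∀ v : V, φ t v = v := by
  classical
  haveI := Fintype.ofFinite T
  have hnorm : ∀ v : V, ∏ i ∈ Finset.range r, φ (g ^ i) v = 1 := by
    intro v
    refine hfixV _ ?_
    obtain ⟨s, rfl⟩ : ∃ s, r = s + 1 := ⟨r - 1, (Nat.sub_add_cancel hr.pos).symm⟩
    rw [map_prod]
    have h1 : ∀ i, φ g (φ (g ^ i) v) = φ (g ^ (i + 1)) v := fun i => by
      rw [← MulAut.mul_apply, ← map_mul, ← pow_succ']
    simp only [h1]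
    rw [Finset.prod_range_succ, Finset.prod_range_succ', pow_zero, hg]
  -- for a fixed exponent, conjugation by `T` runs through the coset
  have hpow : ∀ i : ℕ, ∀ t ∈ T, g ^ i * t * (g ^ i)⁻¹ ∈ T := by
    intro i
    induction i with
    | zero => intro t ht; simpa using ht
    | succ i ih =>
      intro t ht
      have := hgT _ (ih t ht)
      rw [pow_succ', mul_inv_rev]
      simpa [mul_assoc] using this
  have hcoset : ∀ i ∈ Finset.Ico 1 r, ∀ v : V,
      ∏ t : T, φ ((t : H) * g ^ i) v = ∏ t : T, φ ((t : H) * g ^ i * (t : H)⁻¹) v := by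
    intro i hi v
    rw [Finset.mem_Ico] at hi
    let f : T → T := fun u => ⟨(u : H) * (g ^ i * (u : H)⁻¹ * (g ^ i)⁻¹),
      T.mul_mem u.2 (hpow i _ (T.inv_mem u.2))⟩
    have hf : Function.Injective f := by
      intro u w huw
      have e : (u : H) * (g ^ i * (u : H)⁻¹ * (g ^ i)⁻¹) = (w : H) * (g ^ i * (w : H)⁻¹ * (g ^ i)⁻¹) :=
        congrArg Subtype.val huw
      have e2 : Commute ((w : H)⁻¹ * u) (g ^ i) := by
        have e3 : ((w : H)⁻¹ * u) * g ^ i = g ^ i * ((w : H)⁻¹ * u) := by
          calc ((w : H)⁻¹ * u) * g ^ i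
              = (w : H)⁻¹ * ((u : H) * (g ^ i * (u : H)⁻¹ * (g ^ i)⁻¹)) * g ^ i * u := by group
            _ = (w : H)⁻¹ * ((w : H) * (g ^ i * (w : H)⁻¹ * (g ^ i)⁻¹)) * g ^ i * u := by rw [e]
            _ = g ^ i * ((w : H)⁻¹ * u) := by group
        exact e3
      have hco : Nat.Coprime i r := by
        refine (hr.coprime_iff_not_dvd.2 fun hd => ?_).symm
        have := Nat.le_of_dvd (by omega) hd
        omega
      obtain ⟨j, hj⟩ := exists_pow_eq_self_of_coprime (x := g) (n := i)
        (hco.of_dvd_right (orderOf_dvd_of_pow_eq_one hg))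
      have e4 : g * ((w : H)⁻¹ * u) = ((w : H)⁻¹ * u) * g := by
        have := (e2.pow_right j).symm.eq
        rwa [hj] at this
      exact Subtype.ext (inv_mul_eq_one.1 (hfixT _ (T.mul_mem (T.inv_mem w.2) u.2) e4)).symm
    rw [← (Finite.injective_iff_bijective.1 hf).prod_comp fun t : T => φ ((t : H) * g ^ i) v]
    refine Finset.prod_congr rfl fun u _ => ?_
    congr 2
    show (u : H) * (g ^ i * (u : H)⁻¹ * (g ^ i)⁻¹) * g ^ i = (u : H) * g ^ i * (u : H)⁻¹
    group
  have hpowV : ∀ v : V, v ^ Fintype.card T = ∏ t : T, φ (t : H) v := by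
    intro v
    -- the product over `T⟨g⟩` computed by columns
    have h1 : ∏ t : T, ∏ i ∈ Finset.range r, φ ((t : H) * g ^ i) v = 1 := by
      refine Finset.prod_eq_one fun t _ => ?_
      simp only [map_mul, MulAut.mul_apply]
      rw [← map_prod, hnorm, map_one]
    rw [Finset.prod_comm, Finset.range_eq_Ico, Finset.prod_eq_prod_Ico_succ_bot hr.pos] at h1
    simp only [pow_zero, mul_one] at h1
    rw [Finset.prod_congr rfl fun i hi => hcoset i hi v, Finset.prod_comm] at h1
    have h2 : ∀ u : T, ∏ i ∈ Finset.Ico 1 r, φ ((u : H) * g ^ i * (u : H)⁻¹) v = v⁻¹ := by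
      intro u
      have h3 := hnorm (φ ((u : H)⁻¹) v)
      rw [Finset.range_eq_Ico, Finset.prod_eq_prod_Ico_succ_bot hr.pos, pow_zero, map_one,
        MulAut.one_apply] at h3
      simp only [map_mul, MulAut.mul_apply]
      rw [← map_prod, eq_inv_of_mul_eq_one_right h3, map_inv, ← MulAut.mul_apply, ← map_mul,
        mul_inv_cancel, map_one, MulAut.one_apply]
    rw [Finset.prod_congr rfl fun u _ => h2 u, Finset.prod_const, Finset.card_univ, inv_pow,
      mul_inv_eq_one] at h1
    exact h1.symm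
  intro t ht v
  have hfix : φ t (v ^ Fintype.card T) = v ^ Fintype.card T := by
    rw [hpowV, map_prod]
    refine Fintype.prod_equiv (Equiv.mulLeft (⟨t, ht⟩ : T)) _ _ fun u => ?_
    show φ t (φ (u : H) v) = φ (t * (u : H)) v
    rw [map_mul, MulAut.mul_apply]
  obtain ⟨j, hj⟩ := exists_pow_eq_self_of_coprime (x := v) (n := Fintype.card T) (by
    rw [← Nat.card_eq_fintype_card]
    exact (hcop.of_dvd_left (orderOf_dvd_natCard v)).symm)
  rw [← hj, map_pow, hfix]

end Cfsg.Agent.Lib.PrimePowerOutside
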