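import Cfsg.Agent.Lib.PrimePowerOutside.Frobenius
import Cfsg.Agent.Lib.Induced.Burnside
import Cfsg.Agent.Lib.CNGroup.Basic
import Cfsg.Agent.Lib.Induced.CNTheorem
import Cfsg.Agent.S0183

/-!
If a non-solvable normal subgroup `N` of a finite group `G` is such that every element outside `N` has
prime power order, then `G ⧸ N` is solvable.
-/

set_option autoImplicit false

namespace Cfsg.Agent.Lib.PrimePowerOutside

open Subgroup

universe u

variable {G : Type u} [Group G] [Finite G] {N : Subgroup G} [hNn : N.Normal]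

omit hNn in
theorem eq_one_of_commute (h : ∀ x : G, x ∉ N → IsPrimePow (orderOf x)) {x y : G} (hx : x ∉ N)
    (hxy : Commute x y) (hcop : (orderOf x).Coprime (orderOf y)) : y = 1 := by
  by_contra hy
  have ho := hxy.orderOf_mul_eq_mul_orderOf_of_coprime hcop
  have hm : x * y ∉ N := by
    intro hm
    obtain ⟨j, hj⟩ := exists_pow_eq_self_of_coprime (x := x) (n := orderOf y) hcop.symm
    refine hx ?_
    have h1 : (x * y) ^ orderOf y = x ^ orderOf y := by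
      rw [hxy.mul_pow, pow_orderOf_eq_one, mul_one]
    rw [← hj, ← h1]
    exact N.pow_mem (N.pow_mem hm _) _
  obtain ⟨s, k, hs, hk, hsk⟩ := h _ hm
  rw [ho] at hsk
  have hx1 : orderOf x ≠ 1 := fun e => hx (by rw [orderOf_eq_one_iff.1 e]; exact one_mem N)
  have hy1 : orderOf y ≠ 1 := fun e => hy (orderOf_eq_one_iff.1 e)
  obtain ⟨a, -, ha⟩ := (Nat.dvd_prime_pow hs.nat_prime).1 (hsk ▸ dvd_mul_right _ _)
  obtain ⟨b, -, hb⟩ := (Nat.dvd_prime_pow hs.nat_prime).1 (hsk ▸ dvd_mul_left _ _)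
  rw [ha, hb] at hcop
  have ha0 : a ≠ 0 := by rintro rfl; exact hx1 (by rw [ha, pow_zero])
  have hb0 : b ≠ 0 := by rintro rfl; exact hy1 (by rw [hb, pow_zero])
  exact hs.nat_prime.ne_one (Nat.eq_one_of_dvd_coprimes hcop (dvd_pow_self s ha0) (dvd_pow_self s hb0))

theorem quotient_primePow (h : ∀ x : G, x ∉ N → IsPrimePow (orderOf x)) (y : G ⧸ N) (hy : y ≠ 1) :
    IsPrimePow (orderOf y) := by
  obtain ⟨x, rfl⟩ := QuotientGroup.mk'_surjective N y
  have hx : x ∉ N := fun hx => hy ((QuotientGroup.eq_one_iff x).2 hx)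
  obtain ⟨s, k, hs, hk, hsk⟩ := h x hx
  obtain ⟨a, -, ha⟩ := (Nat.dvd_prime_pow hs.nat_prime).1
    (hsk ▸ orderOf_map_dvd (QuotientGroup.mk' N) x)
  refine ⟨s, a, hs, Nat.pos_of_ne_zero ?_, ha.symm⟩
  rintro rfl
  exact hy (orderOf_eq_one_iff.1 (by rw [ha, pow_zero]))

theorem solvable_quotient_of_odd (h : ∀ x : G, x ∉ N → IsPrimePow (orderOf x))
    (hodd : Odd (Nat.card (G ⧸ N))) : Group.IsSolvable (G ⧸ N) := by
  refine Cfsg.Agent.S0183.result hodd fun g hg => ?_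
  obtain ⟨s, a, hs, ha, hsa⟩ := quotient_primePow h g hg
  haveI := Fact.mk hs.nat_prime
  refine IsPGroup.isNilpotent (p := s) (fun y => ?_)
  by_cases hy : (y : G ⧸ N) = 1
  · exact ⟨0, by rw [pow_zero, pow_one]; exact Subtype.ext hy⟩
  obtain ⟨t, b, ht, hb, htb⟩ := quotient_primePow h _ hy
  rcases eq_or_ne t s with rfl | hne
  · exact ⟨b, Subtype.ext (by rw [Subgroup.coe_pow, htb, pow_orderOf_eq_one, Subgroup.coe_one])⟩
  exfalso
  have hcomm : Commute g (y : G ⧸ N) := (Subgroup.mem_centralizer_singleton_iff.1 y.2).symm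
  have hcop : (orderOf g).Coprime (orderOf (y : G ⧸ N)) := by
    rw [← hsa, ← htb]
    exact Nat.Coprime.pow _ _ ((Nat.coprime_primes hs.nat_prime ht.nat_prime).2 hne.symm)
  have ho := hcomm.orderOf_mul_eq_mul_orderOf_of_coprime hcop
  have hne1 : g * (y : G ⧸ N) ≠ 1 := by
    intro e
    rw [e, orderOf_one] at ho
    exact hg (orderOf_eq_one_iff.1 (Nat.eq_one_of_mul_eq_one_right ho.symm))
  obtain ⟨u, c, hu, hc, huc⟩ := quotient_primePow h _ hne1
  rw [ho, ← hsa, ← htb] at huc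
  have h1 : s = u := (Nat.prime_dvd_prime_iff_eq hs.nat_prime hu.nat_prime).1
    (hs.nat_prime.dvd_of_dvd_pow (huc ▸ (dvd_pow_self s ha.ne').trans (dvd_mul_right _ _)))
  have h2 : t = u := (Nat.prime_dvd_prime_iff_eq ht.nat_prime hu.nat_prime).1
    (ht.nat_prime.dvd_of_dvd_pow (huc ▸ (dvd_pow_self t hb.ne').trans (dvd_mul_left _ _)))
  exact hne (h2.trans h1.symm)

theorem mk_surjective_of_supplement {G₀ : Subgroup G} (hsup : N ⊔ G₀ = ⊤) (y : G ⧸ N) :
    ∃ x ∈ G₀, (x : G ⧸ N) = y := by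
  obtain ⟨x, rfl⟩ := QuotientGroup.mk'_surjective N y
  have hx : x ∈ N ⊔ G₀ := hsup ▸ Subgroup.mem_top x
  rw [← SetLike.mem_coe, Subgroup.normal_mul] at hx
  obtain ⟨n, hn, m, hm, rfl⟩ := hx
  refine ⟨m, hm, ?_⟩
  show (m : G ⧸ N) = QuotientGroup.mk' N (n * m)
  rw [map_mul, (QuotientGroup.eq_one_iff n).2 hn |> fun e => (show QuotientGroup.mk' N n = 1 from e),
    one_mul]
  rfl

theorem exists_involution_lift (h : ∀ x : G, x ∉ N → IsPrimePow (orderOf x)) {G₀ : Subgroup G}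
    (hsup : N ⊔ G₀ = ⊤) {r : ℕ} [hr : Fact r.Prime] (hdvd : r ∣ Nat.card (G ⧸ N)) :
    ∃ x ∈ G₀, x ∉ N ∧ x ^ r ∈ N ∧ orderOf (x : G ⧸ N) = r ∧ ∃ k, orderOf x = r ^ k := by
  obtain ⟨y, hy⟩ := exists_prime_orderOf_dvd_card' r hdvd
  obtain ⟨x, hx, rfl⟩ := mk_surjective_of_supplement hsup y
  have hxN : x ∉ N := fun hn => hr.out.ne_one (by rw [← hy, (QuotientGroup.eq_one_iff x).2 hn, orderOf_one])
  obtain ⟨s, k, hs, hk, hsk⟩ := h x hxN
  have h1 : r ∣ s ^ k := by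
    rw [hsk, ← hy]
    exact orderOf_map_dvd (QuotientGroup.mk' N) x
  obtain rfl := (Nat.prime_dvd_prime_iff_eq hr.out hs.nat_prime).1 (hr.out.dvd_of_dvd_pow h1)
  refine ⟨x, hx, hxN, ?_, hy, k, hsk.symm⟩
  rw [← QuotientGroup.eq_one_iff, QuotientGroup.mk_pow, ← hy, pow_orderOf_eq_one]

theorem exists_third_prime {Y : Type*} [Group Y] [Finite Y] (hY : ¬ Group.IsSolvable Y) {q : ℕ}
    (hq : q.Prime) : ∃ r : ℕ, r.Prime ∧ r ≠ 2 ∧ r ≠ q ∧ r ∣ Nat.card Y := by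
  by_contra hno
  push Not at hno
  refine hY (Induced.Burnside.isSolvable_of_card_eq 2 q ((Nat.card Y).factorization 2)
    (if q = 2 then 0 else (Nat.card Y).factorization q) Nat.prime_two hq ?_)
  have hsub : (Nat.card Y).primeFactors ⊆ {2, q} := by
    intro r hr
    rw [Nat.mem_primeFactors] at hr
    rw [Finset.mem_insert, Finset.mem_singleton]
    by_contra hc
    push Not at hc
    exact hno r hr.1 hc.1 hc.2 hr.2.1
  conv_lhs => rw [← Nat.prod_factorization_pow_eq_self (Nat.card_pos (α := Y)).ne']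
  rw [Finsupp.prod, Nat.support_factorization, Finset.prod_subset hsub fun r _ hr => by
    rw [← Nat.support_factorization, Finsupp.notMem_support_iff] at hr; rw [hr, pow_zero]]
  by_cases hq2 : q = 2
  · subst hq2; simp
  · rw [Finset.prod_pair (Ne.symm hq2), if_neg hq2]

/-- The configuration in which `2`-elements of `N` centralise a normalised abelian `q`-subgroup. -/
theorem core (h : ∀ x : G, x ∉ N → IsPrimePow (orderOf x)) (hY : ¬ Group.IsSolvable (G ⧸ N))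
    (h2 : 2 ∣ Nat.card (G ⧸ N)) {G₀ A : Subgroup G} (hsup : N ⊔ G₀ = ⊤)
    (hA1 : A ≠ ⊥) (hAc : ∀ a ∈ A, ∀ b ∈ A, a * b = b * a) {q : ℕ} [Fact q.Prime] (hq2 : q ≠ 2)
    (hAq : IsPGroup q A) (hnorm : G₀ ≤ Subgroup.normalizer (A : Set G))
    (hT : ∀ t ∈ G₀, t ∈ N → (∃ k, orderOf t = 2 ^ k) → ∀ a ∈ A, t * a = a * t) : False := by
  classical
  haveI := Fact.mk Nat.prime_two
  obtain ⟨s, hsG, hsN, hsN2, hso, k, hsk⟩ := exists_involution_lift h hsup h2
  have hord : ∀ a ∈ A, ∃ j, orderOf a = q ^ j := fun a ha => by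
    obtain ⟨j, hj⟩ := hAq.exists_orderOf_eq_pow ⟨a, ha⟩
    exact ⟨j, by rw [← hj, Subgroup.orderOf_mk]⟩
  have hfpf : ∀ a ∈ A, s * a = a * s → a = 1 := fun a ha hc => by
    obtain ⟨j, hj⟩ := hord a ha
    refine eq_one_of_commute h hsN hc ?_
    rw [hsk, hj]
    exact Nat.Coprime.pow _ _ ((Nat.coprime_primes Nat.prime_two (Fact.out : q.Prime)).2 hq2.symm)
  have hconjA : ∀ g ∈ G₀, ∀ a ∈ A, g * a * g⁻¹ ∈ A := fun g hg a ha =>
    (Subgroup.mem_normalizer_iff.1 (hnorm hg) a).1 ha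
  have hinv : ∀ a ∈ A, s * a * s⁻¹ = a⁻¹ := by
    intro a ha
    have hsa := hconjA s hsG a ha
    have hs2 : s ^ 2 * a = a * s ^ 2 := by
      obtain ⟨m, -, hm⟩ := (Nat.dvd_prime_pow Nat.prime_two).1
        (hsk ▸ orderOf_pow_dvd (x := s) 2)
      exact hT _ (G₀.pow_mem hsG 2) hsN2 ⟨m, hm⟩ a ha
    refine eq_inv_of_mul_eq_one_left (hfpf _ (A.mul_mem hsa ha) ?_)
    calc s * (s * a * s⁻¹ * a) = s ^ 2 * a * (s⁻¹ * a) := by rw [sq]; group
      _ = a * s ^ 2 * (s⁻¹ * a) := by rw [hs2]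
      _ = a * (s * a * s⁻¹) * s := by group
      _ = s * a * s⁻¹ * a * s := by rw [hAc a ha _ hsa]
  let C := G₀ ⊓ Subgroup.centralizer (A : Set G)
  have hC : ∀ g ∈ G₀, ∀ c ∈ C, g * c * g⁻¹ ∈ C := by
    intro g hg c hc
    refine ⟨G₀.mul_mem (G₀.mul_mem hg hc.1) (G₀.inv_mem hg), Subgroup.mem_centralizer_iff.2 fun a ha => ?_⟩
    have h1 := Subgroup.mem_centralizer_iff.1 hc.2 _ (hconjA g⁻¹ (G₀.inv_mem hg) a ha)
    rw [inv_inv] at h1
    calc a * (g * c * g⁻¹) = g * ((g⁻¹ * a * g) * c) * g⁻¹ := by group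
      _ = g * (c * (g⁻¹ * a * g)) * g⁻¹ := by rw [h1]
      _ = g * c * g⁻¹ * a := by group
  let X := C.map (QuotientGroup.mk' N)
  have hXn : X.Normal := by
    refine ⟨fun x hx y => ?_⟩
    obtain ⟨c, hc, rfl⟩ := hx
    obtain ⟨g, hg, rfl⟩ := mk_surjective_of_supplement hsup y
    exact ⟨g * c * g⁻¹, hC g hg c hc, by simp⟩
  have hXq : IsPGroup q X := by
    rintro ⟨_, c, hc, rfl⟩
    by_cases hcN : c ∈ N
    · exact ⟨0, Subtype.ext (by simp [(QuotientGroup.eq_one_iff c).2 hcN])⟩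
    obtain ⟨a, ha, ha1⟩ := (Subgroup.bot_or_exists_ne_one A).resolve_left hA1
    obtain ⟨j, hj⟩ := hord a ha
    obtain ⟨t, b, ht, hb, htb⟩ := h c hcN
    have htq : t = q := by
      by_contra hne
      refine ha1 (eq_one_of_commute h hcN (Subgroup.mem_centralizer_iff.1 hc.2 a ha).symm ?_)
      rw [← htb, hj]
      exact Nat.Coprime.pow _ _ ((Nat.coprime_primes ht.nat_prime (Fact.out : q.Prime)).2 hne)
    refine ⟨b, Subtype.ext ?_⟩
    rw [Subgroup.coe_pow, ← map_pow, Subgroup.coe_one, ← htq, htb, pow_orderOf_eq_one, map_one]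
  obtain ⟨r, hr, hr2, hrq, hrY⟩ := exists_third_prime hY (Fact.out : q.Prime)
  haveI := Fact.mk hr
  obtain ⟨g, hgG, hgN, -, hgo, -⟩ := exists_involution_lift h hsup hrY
  set σ : G ⧸ N := (s : G ⧸ N) with hσ
  have hσ2 : σ * σ = 1 := by rw [← sq, ← hso, pow_orderOf_eq_one]
  -- the commutator of the involution and `g` lies in `X`
  have hx : (g : G ⧸ N) * σ * (g : G ⧸ N)⁻¹ * σ ∈ X := by
    refine ⟨g * s * g⁻¹ * s, ⟨G₀.mul_mem (G₀.mul_mem (G₀.mul_mem hgG hsG) (G₀.inv_mem hgG)) hsG,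
      Subgroup.mem_centralizer_iff.2 fun a ha => ?_⟩, rfl⟩
    have h1 := hconjA g⁻¹ (G₀.inv_mem hgG) a⁻¹ (A.inv_mem ha)
    rw [inv_inv] at h1
    have h3 : s * a = a⁻¹ * s := mul_inv_eq_iff_eq_mul.1 (hinv a ha)
    have h4 := hinv _ h1
    have h5 : (g * s * g⁻¹) * a⁻¹ = a * (g * s * g⁻¹) :=
      calc (g * s * g⁻¹) * a⁻¹ = g * (s * (g⁻¹ * a⁻¹ * g) * s⁻¹) * s * g⁻¹ := by group
        _ = g * (g⁻¹ * a⁻¹ * g)⁻¹ * s * g⁻¹ := by rw [h4]
        _ = a * (g * s * g⁻¹) := by group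
    calc a * (g * s * g⁻¹ * s) = a * (g * s * g⁻¹) * s := by group
      _ = (g * s * g⁻¹) * a⁻¹ * s := by rw [h5]
      _ = (g * s * g⁻¹) * (s * a) := by rw [h3]; group
      _ = g * s * g⁻¹ * s * a := by group
  set x := (g : G ⧸ N) * σ * (g : G ⧸ N)⁻¹ * σ with hxdef
  have hσinv : σ⁻¹ = σ := inv_eq_of_mul_eq_one_right hσ2
  have hσx : σ * x * σ = x⁻¹ := by
    rw [hxdef, mul_inv_rev, mul_inv_rev, mul_inv_rev, inv_inv, hσinv]
    calc σ * ((g : G ⧸ N) * σ * (g : G ⧸ N)⁻¹ * σ) * σ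
        = σ * ((g : G ⧸ N) * σ * (g : G ⧸ N)⁻¹) * (σ * σ) := by group
      _ = _ := by rw [hσ2]; group
  obtain ⟨j, hj⟩ : ∃ j, orderOf x ∣ 2 * j + 1 := by
    obtain ⟨e, he⟩ := hXq.exists_orderOf_eq_pow ⟨x, hx⟩
    rw [Subgroup.orderOf_mk] at he
    obtain ⟨j, hj⟩ : Odd (q ^ e) := ((Fact.out : q.Prime).odd_of_ne_two hq2).pow
    exact ⟨j, by rw [he, hj]⟩
  set y := x ^ (j + 1) with hy
  have hy2 : y * y = x := by
    rw [hy, ← pow_add, show j + 1 + (j + 1) = (2 * j + 1) + 1 by ring, pow_succ,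
      orderOf_dvd_iff_pow_eq_one.1 hj, one_mul]
  have hσy : σ * y * σ = y⁻¹ := by
    have hconj : ∀ n : ℕ, σ * x ^ n * σ = (x ^ n)⁻¹ := by
      intro n
      induction n with
      | zero => simp [hσ2]
      | succ n ih =>
        rw [pow_succ', mul_inv_rev, ← ih, ← hσx]
        calc σ * (x * x ^ n) * σ = σ * x ^ n * x * σ := by rw [← pow_mul_comm' x n]; group
          _ = σ * x ^ n * (σ * σ) * x * σ := by rw [hσ2]; group
          _ = σ * x ^ n * σ * (σ * x * σ) := by group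
    exact hconj _
  set c := y⁻¹ * (g : G ⧸ N) with hc
  have hcs : Commute c σ := by
    have h1 : y * σ * y⁻¹ = (g : G ⧸ N) * σ * (g : G ⧸ N)⁻¹ := by
      have h2 : σ * y⁻¹ = y * σ := by
        rw [← hσy]
        calc σ * (σ * y * σ) = (σ * σ) * y * σ := by group
          _ = y * σ := by rw [hσ2, one_mul]
      calc y * σ * y⁻¹ = y * (σ * y⁻¹) := by group
        _ = (y * y) * σ := by rw [h2]; group
        _ = (g : G ⧸ N) * σ * (g : G ⧸ N)⁻¹ * (σ * σ) := by rw [hy2, hxdef]; group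
        _ = _ := by rw [hσ2, mul_one]
    show c * σ = σ * c
    calc c * σ = y⁻¹ * ((g : G ⧸ N) * σ * (g : G ⧸ N)⁻¹) * (g : G ⧸ N) := by rw [hc]; group
      _ = y⁻¹ * (y * σ * y⁻¹) * (g : G ⧸ N) := by rw [h1]
      _ = σ * c := by rw [hc]; group
  have hrc : r ∣ orderOf c := by
    have hyX : y ∈ X := X.pow_mem hx _
    haveI := hXn
    have h1 : (QuotientGroup.mk' X c) = QuotientGroup.mk' X (g : G ⧸ N) := by
      rw [hc, map_mul, map_inv,
        show QuotientGroup.mk' X y = 1 from (QuotientGroup.eq_one_iff y).2 hyX, inv_one, one_mul]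
    refine dvd_trans ?_ (h1 ▸ orderOf_map_dvd (QuotientGroup.mk' X) c)
    rcases (Nat.dvd_prime hr).1 (hgo ▸ orderOf_map_dvd (QuotientGroup.mk' X) (g : G ⧸ N)) with e | e
    · exfalso
      have hgX : (g : G ⧸ N) ∈ X :=
        (QuotientGroup.eq_one_iff _).1 (orderOf_eq_one_iff.1 e)
      obtain ⟨i, hi⟩ := hXq.exists_orderOf_eq_pow ⟨_, hgX⟩
      rw [Subgroup.orderOf_mk, hgo] at hi
      exact hrq ((Nat.prime_dvd_prime_iff_eq hr (Fact.out : q.Prime)).1
        (hr.dvd_of_dvd_pow (n := i) (dvd_of_eq hi)))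
    · exact e.symm.dvd
  set d := c ^ (orderOf c / r) with hd
  have hdo : orderOf d = r := by
    rw [hd]; exact orderOf_pow_orderOf_div (orderOf_pos c).ne' hrc
  have hcop : (orderOf d).Coprime (orderOf σ) := by
    rw [hdo, hso]; exact (Nat.coprime_primes hr Nat.prime_two).2 hr2
  have hmul := (hcs.pow_left (orderOf c / r)).orderOf_mul_eq_mul_orderOf_of_coprime hcop
  rw [hdo, hso] at hmul
  have hne1 : d * σ ≠ 1 := by
    intro e
    rw [← hd, e, orderOf_one] at hmul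
    have := hr.two_le; omega
  obtain ⟨u, b, hu, hb, hub⟩ := quotient_primePow h _ hne1
  rw [hd, hmul] at hub
  have e1 : r = u := (Nat.prime_dvd_prime_iff_eq hr hu.nat_prime).1
    (hr.dvd_of_dvd_pow (hub ▸ dvd_mul_right r 2))
  have e2 : 2 = u := (Nat.prime_dvd_prime_iff_eq Nat.prime_two hu.nat_prime).1
    (Nat.prime_two.dvd_of_dvd_pow (hub ▸ dvd_mul_left 2 r))
  exact hr2 (e1.trans e2.symm)

theorem exists_centre_data {q : ℕ} [Fact q.Prime] {Q : Subgroup G} (hQ : IsPGroup q Q) (hQ1 : Q ≠ ⊥) :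
    let A := (Subgroup.center Q).map Q.subtype
    A ≠ ⊥ ∧ A ≤ Q ∧ IsPGroup q A ∧ (∀ a ∈ A, ∀ b ∈ Q, a * b = b * a) ∧
      Subgroup.normalizer (Q : Set G) ≤ Subgroup.normalizer (A : Set G) := by
  haveI := (Subgroup.nontrivial_iff_ne_bot Q).2 hQ1
  refine ⟨?_, Subgroup.map_subtype_le _, hQ.to_le (Subgroup.map_subtype_le _), ?_, ?_⟩
  · rw [Ne, Subgroup.map_eq_bot_iff_of_injective _ Q.subtype_injective]
    exact hQ.bot_lt_center.ne'
  · rintro _ ⟨a, ha, rfl⟩ b hb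
    exact congrArg Subtype.val (Subgroup.mem_center_iff.1 ha ⟨b, hb⟩).symm
  · intro g hg
    have key : ∀ k ∈ Subgroup.normalizer (Q : Set G), ∀ a ∈ (Subgroup.center Q).map Q.subtype,
        k * a * k⁻¹ ∈ (Subgroup.center Q).map Q.subtype := by
      rintro k hk _ ⟨a, ha, rfl⟩
      refine ⟨⟨k * a * k⁻¹, (Subgroup.mem_normalizer_iff.1 hk a).1 a.2⟩, Subgroup.mem_center_iff.2 ?_, rfl⟩
      intro b
      refine Subtype.ext ?_
      have hk' := (Subgroup.mem_normalizer_iff.1 (Subgroup.inv_mem _ hk) b).1 b.2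
      rw [inv_inv] at hk'
      have h1 := congrArg Subtype.val (Subgroup.mem_center_iff.1 ha ⟨_, hk'⟩)
      simp only [Subgroup.coe_mul] at h1
      show (b : G) * (k * a * k⁻¹) = k * a * k⁻¹ * b
      calc (b : G) * (k * a * k⁻¹) = k * ((k⁻¹ * b * k) * a) * k⁻¹ := by group
        _ = k * (a * (k⁻¹ * b * k)) * k⁻¹ := by rw [h1]
        _ = _ := by group
    refine Subgroup.mem_normalizer_iff.2 fun a => ⟨key g hg a, fun ha => ?_⟩
    have := key g⁻¹ (Subgroup.inv_mem _ hg) _ ha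
    simpa [mul_assoc] using this

set_option maxHeartbeats 200000 in
-- bound the search
theorem quotient_isSolvable (hns : ¬ Group.IsSolvable N)
    (h : ∀ x : G, x ∉ N → IsPrimePow (orderOf x)) : Group.IsSolvable (G ⧸ N) := by
  classical
  by_contra hY
  haveI := Fact.mk Nat.prime_two
  have h2 : 2 ∣ Nat.card (G ⧸ N) := by
    rw [← even_iff_two_dvd, ← Nat.not_odd_iff_even]
    exact fun hodd => hY (solvable_quotient_of_odd h hodd)
  obtain ⟨q, hq, hq2, -, hqN⟩ := exists_third_prime hns Nat.prime_two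
  haveI := Fact.mk hq
  obtain ⟨Q₀⟩ : Nonempty (Sylow q N) := inferInstance
  set Q := (Q₀ : Subgroup N).map N.subtype with hQdef
  have hQ1 : Q ≠ ⊥ := by
    rw [hQdef, Ne, Subgroup.map_eq_bot_iff_of_injective _ N.subtype_injective]
    exact Q₀.ne_bot_of_dvd_card hqN
  have hQq : IsPGroup q Q := Q₀.2.map _
  have hfr : Subgroup.normalizer (Q : Set G) ⊔ N = ⊤ := Sylow.normalizer_sup_eq_top Q₀
  obtain ⟨G₀, hG₀⟩ := (Set.toFinite {H : Subgroup G | H ≤ Subgroup.normalizer (Q : Set G) ∧ N ⊔ H = ⊤}).exists_minimal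
    ⟨_, le_rfl, by rw [sup_comm]; exact hfr⟩
  obtain ⟨hG₀Q, hsup⟩ := hG₀.1
  have hfrat : N.subgroupOf G₀ ≤ frattini G₀ := by
    refine le_iInf₂ fun K hK => ?_
    by_contra hle
    have h1 : N.subgroupOf G₀ ⊔ K = ⊤ := hK.2 _ (right_lt_sup.2 hle)
    have h3 : N ⊔ K.map G₀.subtype = ⊤ := by
      have h4 := congrArg (Subgroup.map G₀.subtype) h1
      rw [Subgroup.map_sup, ← MonoidHom.range_eq_map, Subgroup.range_subtype] at h4
      refine eq_top_iff.2 (hsup.ge.trans (sup_le le_sup_left (h4.ge.trans ?_)))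
      exact sup_le ((Subgroup.map_comap_le G₀.subtype N).trans le_sup_left) le_sup_right
    refine hK.1 (eq_top_iff.2 fun x _ => ?_)
    have h5 := hG₀.2 ⟨(Subgroup.map_subtype_le K).trans hG₀Q, h3⟩ (Subgroup.map_subtype_le K) x.2
    obtain ⟨y, hy, hyx⟩ := h5
    exact Subtype.ext hyx ▸ hy
  set N₀ := N.subgroupOf G₀ with hN₀
  haveI : Group.IsNilpotent N₀ :=
    CNGroup.Basic.isNilpotent_mono hfrat frattini_nilpotent
  -- `G₀ ∩ N` is a 2-group
  have hN₀2 : IsPGroup 2 N₀ := by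
    by_contra hnot
    obtain ⟨p, hp, hp2, -, hpN⟩ : ∃ p : ℕ, p.Prime ∧ p ≠ 2 ∧ p ≠ 2 ∧ p ∣ Nat.card N₀ := by
      by_contra hno
      push Not at hno
      refine hnot (IsPGroup.of_card (Nat.eq_prime_pow_of_unique_prime_dvd Nat.card_pos.ne'
        fun {p} hp hpd => ?_))
      by_contra hne
      exact hno p hp hne hne hpd
    haveI := Fact.mk hp
    obtain ⟨P₀⟩ : Nonempty (Sylow p N₀) := inferInstance
    haveI hP₀n : (P₀ : Subgroup N₀).Normal := inferInstance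
    haveI : (P₀ : Subgroup N₀).Characteristic := P₀.characteristic_of_normal hP₀n
    set P₁ := (P₀ : Subgroup N₀).map N₀.subtype with hP₁
    haveI hP₁n : P₁.Normal := inferInstance
    set P := P₁.map G₀.subtype with hP
    have hP1 : P ≠ ⊥ := by
      rw [hP, Ne, Subgroup.map_eq_bot_iff_of_injective _ G₀.subtype_injective, hP₁,
        Subgroup.map_eq_bot_iff_of_injective _ N₀.subtype_injective]
      exact P₀.ne_bot_of_dvd_card hpN
    obtain ⟨hA1, hAP, hAp, hAc, hAn⟩ := exists_centre_data ((P₀.2.map _).map _ : IsPGroup p P) hP1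
    have hG₀P : G₀ ≤ Subgroup.normalizer (P : Set G) := by
      intro g hg
      refine Subgroup.mem_normalizer_iff.2 fun a => ⟨?_, ?_⟩
      · rintro ⟨b, hb, rfl⟩
        exact ⟨⟨g, hg⟩ * b * ⟨g, hg⟩⁻¹, hP₁n.conj_mem b hb _, rfl⟩
      · rintro ⟨b, hb, hba⟩
        refine ⟨⟨g, hg⟩⁻¹ * b * (⟨g, hg⟩⁻¹)⁻¹, hP₁n.conj_mem b hb _, ?_⟩
        show g⁻¹ * (b : G) * g⁻¹⁻¹ = a
        rw [show (b : G) = g * a * g⁻¹ from hba]; group
    refine core h hY h2 hsup hA1 (fun a ha b hb => hAc a ha b (hAP hb)) hp2 hAp (hG₀P.trans hAn)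
      fun t ht htN ⟨k, hk⟩ a ha => ?_
    -- coprime elements of a nilpotent group commute
    obtain ⟨b, hb, rfl⟩ := hAP ha
    obtain ⟨c, hc, rfl⟩ := hb
    obtain ⟨m, hm⟩ := P₀.2.exists_orderOf_eq_pow ⟨c, hc⟩
    rw [Subgroup.orderOf_mk] at hm
    have hcop : (orderOf (⟨⟨t, ht⟩, htN⟩ : N₀)).Coprime (orderOf c) := by
      rw [show orderOf (⟨⟨t, ht⟩, htN⟩ : N₀) = 2 ^ k from
        (Subgroup.orderOf_coe _).symm.trans ((Subgroup.orderOf_coe _).symm.trans hk), hm]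
      exact Nat.Coprime.pow _ _ ((Nat.coprime_primes Nat.prime_two hp).2 hp2.symm)
    exact congrArg (fun z : N₀ => ((z : G₀) : G)) (CNGroup.Basic.commute_of_coprime_nilpotent N₀ _ _ hcop)
  -- the centre of `Q`
  obtain ⟨hA1, hAQ, hAq, hAc, hAn⟩ := exists_centre_data hQq hQ1
  set A := (Subgroup.center Q).map Q.subtype with hAdef
  have hG₀A : G₀ ≤ Subgroup.normalizer (A : Set G) := hG₀Q.trans hAn
  refine core h hY h2 hsup hA1 (fun a ha b hb => hAc a ha b (hAQ hb)) hq2 hAq hG₀A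
    fun t ht htN _ a ha => ?_
  obtain ⟨r, hr, hr2, hrq, hrY⟩ := exists_third_prime hY hq
  haveI := Fact.mk hr
  obtain ⟨g, hgG, hgN, hgN', -, k, hk⟩ := exists_involution_lift h hsup hrY
  have hgr : g ^ r = 1 := by
    obtain ⟨e, he⟩ := hN₀2.exists_orderOf_eq_pow ⟨⟨g ^ r, G₀.pow_mem hgG r⟩, hgN'⟩
    replace he : orderOf (g ^ r) = 2 ^ e :=
      ((Subgroup.orderOf_coe _).trans (Subgroup.orderOf_coe _)).trans he
    obtain ⟨e', -, he'⟩ := (Nat.dvd_prime_pow hr).1 (hk ▸ orderOf_pow_dvd (x := g) r)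
    rw [← orderOf_eq_one_iff]
    exact Nat.eq_one_of_dvd_coprimes (Nat.Coprime.pow e' e ((Nat.coprime_primes hr Nat.prime_two).2 hr2))
      he'.dvd he.dvd
  letI : CommGroup A := { (inferInstance : Group A) with
    mul_comm := fun x y => Subtype.ext (hAc x x.2 y (hAQ y.2)) }
  let φ : G₀ →* MulAut A := A.normalizerMonoidHom.comp (Subgroup.inclusion hG₀A)
  have hφ : ∀ (x : G₀) (v : A), ((φ x v : A) : G) = (x : G) * v * (x : G)⁻¹ := fun x v => rfl
  have hgo : orderOf g = r := orderOf_eq_prime hgr fun e => hgN (e ▸ one_mem N)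
  have hcopA : (Nat.card A).Coprime (Nat.card N₀) := by
    obtain ⟨a', ha'⟩ := IsPGroup.iff_card.1 hAq
    obtain ⟨b', hb'⟩ := IsPGroup.iff_card.1 hN₀2
    rw [ha', hb']
    exact Nat.Coprime.pow _ _ ((Nat.coprime_primes hq Nat.prime_two).2 hq2)
  have key := acts_trivially φ N₀ ⟨g, hgG⟩ hr (Subtype.ext hgr)
    (fun x hx => hNn.conj_mem _ hx g)
    (fun x hx he => by
      refine Subtype.ext (eq_one_of_commute h hgN (congrArg Subtype.val he) ?_)
      obtain ⟨e, he'⟩ := hN₀2.exists_orderOf_eq_pow ⟨x, hx⟩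
      replace he' : orderOf (x : G) = 2 ^ e :=
        ((Subgroup.orderOf_coe _).trans (Subgroup.orderOf_coe (⟨x, hx⟩ : N₀))).trans he'
      rw [hgo, he']
      exact ((Nat.coprime_primes hr Nat.prime_two).2 hr2).pow_right e)
    (fun v hv => by
      have h1 : g * (v : G) * g⁻¹ = v := by rw [← hφ ⟨g, hgG⟩ v, hv]
      refine Subtype.ext (eq_one_of_commute h hgN (mul_inv_eq_iff_eq_mul.1 h1) ?_)
      obtain ⟨e, he'⟩ := hAq.exists_orderOf_eq_pow v
      rw [← Subgroup.orderOf_coe] at he'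
      rw [hgo, he']
      exact ((Nat.coprime_primes hr hq).2 hrq).pow_right e)
    hcopA ⟨t, ht⟩ htN ⟨a, ha⟩
  have := congrArg Subtype.val key
  rw [hφ] at this
  exact mul_inv_eq_iff_eq_mul.1 this

end Cfsg.Agent.Lib.PrimePowerOutside
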